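import Mathlib
import Cfsg.Prelude.Def_Classical

/-!
Block-diagonal embedding of a product of two isometry groups.
-/

set_option autoImplicit false

namespace CfsgLib.OrthSum

open Matrix

theorem commutator_le_comap {A K : Type*} [Group A] [Group K] (u : A →* K) :
    commutator A ≤ (commutator K).comap u := by
  rw [← Subgroup.map_le_iff_le_comap, commutator_def, Subgroup.map_commutator, commutator_def]
  exact Subgroup.commutator_mono le_top le_top

theorem prod_commutator_le {G H K : Type*} [Group G] [Group H] [Group K] (f : G × H →* K) :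
    (commutator G).prod (commutator H) ≤ (commutator K).comap f := by
  rintro ⟨a, b⟩ ⟨ha, hb⟩
  have h1 := commutator_le_comap (f.comp (MonoidHom.inl G H)) ha
  have h2 := commutator_le_comap (f.comp (MonoidHom.inr G H)) hb
  have : ((a, b) : G × H) = (a, 1) * (1, b) := by simp
  rw [Subgroup.mem_comap, this, map_mul]
  exact mul_mem h1 h2

variable {F : Type*} [Field F] {k l : Type} [Fintype k] [DecidableEq k] [Fintype l] [DecidableEq l]

/-- Block diagonal invertible matrices. -/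
def blockGL : GL k F × GL l F →* GL (k ⊕ l) F :=
  Units.map
    { toFun := fun p => fromBlocks p.1 0 0 p.2
      map_one' := by simp
      map_mul' := fun p p' => by simp [fromBlocks_multiply] } |>.comp
    (MulEquiv.prodUnits (M := Matrix k k F) (N := Matrix l l F)).symm.toMonoidHom

theorem blockGL_coe (g : GL k F) (h : GL l F) :
    (blockGL (g, h) : Matrix (k ⊕ l) (k ⊕ l) F) = fromBlocks g 0 0 h := rfl

theorem mulVec_inl (g : Matrix k k F) (h : Matrix l l F) (v : k ⊕ l → F) :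
    (fromBlocks g 0 0 h *ᵥ v) ∘ Sum.inl = g *ᵥ (v ∘ Sum.inl) := by
  rw [fromBlocks_mulVec]; funext i; simp

theorem mulVec_inr (g : Matrix k k F) (h : Matrix l l F) (v : k ⊕ l → F) :
    (fromBlocks g 0 0 h *ᵥ v) ∘ Sum.inr = h *ᵥ (v ∘ Sum.inr) := by
  rw [fromBlocks_mulVec]; funext i; simp

/-- Block diagonal embedding of isometry groups. -/
def blockHom (Q₁ : (k → F) → F) (Q₂ : (l → F) → F) :
    ↥(Cfsg.isometryGroup F Q₁) × ↥(Cfsg.isometryGroup F Q₂) →*
      ↥(Cfsg.isometryGroup F (fun v : k ⊕ l → F => Q₁ (v ∘ Sum.inl) + Q₂ (v ∘ Sum.inr))) :=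
  (blockGL.comp ((Cfsg.isometryGroup F Q₁).subtype.prodMap
    (Cfsg.isometryGroup F Q₂).subtype)).codRestrict _ (fun ⟨g, h⟩ u _ => by
      have h1 := g.2 (u ∘ Sum.inl) (u ∘ Sum.inl)
      have h2 := h.2 (u ∘ Sum.inr) (u ∘ Sum.inr)
      simp only [Units.coeHom_apply] at h1 h2
      change Q₁ ((fromBlocks (g : GL k F) 0 0 (h : GL l F) *ᵥ u : k ⊕ l → F) ∘ Sum.inl) +
        Q₂ ((fromBlocks (g : GL k F) 0 0 (h : GL l F) *ᵥ u : k ⊕ l → F) ∘ Sum.inr) = _
      rw [mulVec_inl, mulVec_inr, h1, h2])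

theorem blockHom_coe (Q₁ : (k → F) → F) (Q₂ : (l → F) → F)
    (g : ↥(Cfsg.isometryGroup F Q₁)) (h : ↥(Cfsg.isometryGroup F Q₂)) :
    ((blockHom Q₁ Q₂ (g, h) : GL (k ⊕ l) F) : Matrix (k ⊕ l) (k ⊕ l) F) =
      fromBlocks ((g : GL k F) : Matrix k k F) 0 0 ((h : GL l F) : Matrix l l F) := rfl

end CfsgLib.OrthSum
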