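import Mathlib

/-!
Gram determinants of quadratic forms and the classification of nondegenerate quadratic forms
over finite fields of odd order.
-/

set_option autoImplicit false

namespace CfsgLib.QuadFin

open Matrix

variable {F : Type*} [Field F]

/-- Gram matrix of the polar form of `Q` in the standard basis. -/
def gram {ι : Type*} [Fintype ι] [DecidableEq ι] (Q : (ι → F) → F) : Matrix ι ι F :=
  Matrix.of fun i j => QuadraticMap.polar Q (Pi.single i 1) (Pi.single j 1)

theorem gram_eq_toMatrix {ι : Type*} [Fintype ι] [DecidableEq ι] (Q : QuadraticForm F (ι → F)) :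
    gram ⇑Q = LinearMap.BilinForm.toMatrix (Pi.basisFun F ι) Q.polarBilin := by
  ext i j
  simp [gram, LinearMap.BilinForm.toMatrix_apply]

theorem gram_det_ne_zero {ι : Type*} [Fintype ι] [DecidableEq ι] (Q : QuadraticForm F (ι → F))
    (hQ : Q.polarBilin.Nondegenerate) : (gram ⇑Q).det ≠ 0 := by
  rw [gram_eq_toMatrix]
  exact Matrix.nondegenerate_iff_det_ne_zero.1
    (LinearMap.BilinForm.Nondegenerate.toMatrix (B := Q.polarBilin) hQ _)

theorem gram_comp {ι : Type*} [Fintype ι] [DecidableEq ι] (Q : QuadraticForm F (ι → F))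
    (g : (ι → F) ≃ₗ[F] (ι → F)) :
    gram (fun v => Q (g v)) = (LinearMap.toMatrix' g.toLinearMap)ᵀ * gram ⇑Q *
      LinearMap.toMatrix' g.toLinearMap := by
  have h : gram (fun v => Q (g v)) = LinearMap.BilinForm.toMatrix (Pi.basisFun F ι)
      (LinearMap.BilinForm.comp Q.polarBilin g.toLinearMap g.toLinearMap) := by
    ext i j
    simp [gram, LinearMap.BilinForm.toMatrix_apply, QuadraticMap.polar, map_add]
  rw [h, LinearMap.BilinForm.toMatrix_comp (Pi.basisFun F ι) (Pi.basisFun F ι), gram_eq_toMatrix]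
  simp [LinearMap.toMatrix_eq_toMatrix']

theorem gram_det_comp {ι : Type*} [Fintype ι] [DecidableEq ι] (Q : QuadraticForm F (ι → F))
    (g : (ι → F) ≃ₗ[F] (ι → F)) :
    (gram (fun v => Q (g v))).det = LinearMap.det g.toLinearMap ^ 2 * (gram ⇑Q).det := by
  rw [gram_comp, det_mul, det_mul, det_transpose, LinearMap.det_toMatrix']
  ring

theorem gram_smul {ι : Type*} [Fintype ι] [DecidableEq ι] (Q : (ι → F) → F) (c : F) :
    gram (fun v => c * Q v) = c • gram Q := by
  ext i j
  simp [gram, QuadraticMap.polar, mul_sub]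

theorem gram_det_smul {ι : Type*} [Fintype ι] [DecidableEq ι] (Q : (ι → F) → F) (c : F) :
    (gram (fun v => c * Q v)).det = c ^ Fintype.card ι * (gram Q).det := by
  rw [gram_smul, det_smul]

theorem gram_diag {ι : Type*} [Fintype ι] [DecidableEq ι] (w : ι → F) :
    gram (fun v : ι → F => ∑ i, w i * v i ^ 2) = Matrix.diagonal (fun i => 2 * w i) := by
  ext i j
  simp only [gram, of_apply, QuadraticMap.polar, Pi.add_apply, ← Finset.sum_sub_distrib]
  rw [Finset.sum_eq_single i]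
  · by_cases h : i = j
    · subst h; simp; ring
    · simp [h]
  · intro k _ hk
    simp [hk]
  · simp

/-- Two quadratic functions are equivalent if a linear change of variables carries one to the other. -/
def Equiv' {ι : Type*} (Q₁ Q₂ : (ι → F) → F) : Prop :=
  ∃ g : (ι → F) ≃ₗ[F] (ι → F), ∀ v, Q₂ (g v) = Q₁ v

theorem Equiv'.refl {ι : Type*} (Q : (ι → F) → F) : Equiv' Q Q :=
  ⟨LinearEquiv.refl F _, fun _ => rfl⟩

theorem Equiv'.symm {ι : Type*} {Q₁ Q₂ : (ι → F) → F} (h : Equiv' Q₁ Q₂) : Equiv' Q₂ Q₁ := by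
  obtain ⟨g, hg⟩ := h
  exact ⟨g.symm, fun v => by rw [← hg, g.apply_symm_apply]⟩

theorem Equiv'.trans {ι : Type*} {Q₁ Q₂ Q₃ : (ι → F) → F} (h : Equiv' Q₁ Q₂) (h' : Equiv' Q₂ Q₃) :
    Equiv' Q₁ Q₃ := by
  obtain ⟨g, hg⟩ := h
  obtain ⟨g', hg'⟩ := h'
  exact ⟨g.trans g', fun v => by rw [LinearEquiv.trans_apply, hg', hg]⟩

/-- Prepending one variable. -/
theorem Equiv'.cons {n : ℕ} {Q₁ Q₂ : (Fin n → F) → F} (c : F) (h : Equiv' Q₁ Q₂) :
    Equiv' (fun v : Fin (n + 1) → F => c * v 0 ^ 2 + Q₁ (fun i => v i.succ))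
      (fun v : Fin (n + 1) → F => c * v 0 ^ 2 + Q₂ (fun i => v i.succ)) := by
  obtain ⟨g, hg⟩ := h
  refine ⟨{
    toFun := fun v => Fin.cons (v 0) (g (fun i => v i.succ))
    invFun := fun v => Fin.cons (v 0) (g.symm (fun i => v i.succ))
    map_add' := ?_
    map_smul' := ?_
    left_inv := ?_
    right_inv := ?_ }, ?_⟩
  · intro u v
    ext i
    refine Fin.cases ?_ ?_ i
    · simp
    · intro j
      simp only [Pi.add_apply, Fin.cons_succ]
      rw [← Pi.add_apply, ← map_add]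
      rfl
  · intro r v
    ext i
    refine Fin.cases ?_ ?_ i
    · simp
    · intro j
      simp only [Pi.smul_apply, Fin.cons_succ, RingHom.id_apply]
      rw [← Pi.smul_apply, ← map_smul]
      rfl
  · intro v
    ext i
    refine Fin.cases ?_ ?_ i
    · simp
    · intro j; simp
  · intro v
    ext i
    refine Fin.cases ?_ ?_ i
    · simp
    · intro j; simp
  · intro v
    simp [hg]

/-- The binary change of variables `<a, b> ≅ <ab, 1>` when `a x^2 + b y^2 = 1`, on the first two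
coordinates. -/
theorem equiv'_two {n : ℕ} (Q : (Fin n → F) → F) (a b x y : F) (h : a * x ^ 2 + b * y ^ 2 = 1) :
    Equiv' (fun v : Fin (n + 2) → F => a * b * v 0 ^ 2 + (1 * v 1 ^ 2 + Q (fun i => v i.succ.succ)))
      (fun v : Fin (n + 2) → F => a * v 0 ^ 2 + (b * v 1 ^ 2 + Q (fun i => v i.succ.succ))) := by
  refine ⟨{
    toFun := fun v => Fin.cons (-(b * y) * v 0 + x * v 1)
      (Fin.cons (a * x * v 0 + y * v 1) (fun i => v i.succ.succ))
    invFun := fun v => Fin.cons (-y * v 0 + x * v 1)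
      (Fin.cons (a * x * v 0 + b * y * v 1) (fun i => v i.succ.succ))
    map_add' := ?_
    map_smul' := ?_
    left_inv := ?_
    right_inv := ?_ }, ?_⟩
  · intro u v
    ext i
    refine Fin.cases ?_ (fun j => Fin.cases ?_ ?_ j) i <;> simp <;> ring
  · intro r v
    ext i
    refine Fin.cases ?_ (fun j => Fin.cases ?_ ?_ j) i <;> simp <;> ring
  · intro v
    ext i
    refine Fin.cases ?_ (fun j => Fin.cases ?_ ?_ j) i
    · simp only [Fin.cons_zero, Fin.cons_one]; linear_combination (v 0) * h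
    · simp only [Fin.cons_zero, Fin.cons_one, Fin.cons_succ, Fin.succ_zero_eq_one]
      linear_combination (v 1) * h
    · intro k; simp
  · intro v
    ext i
    refine Fin.cases ?_ (fun j => Fin.cases ?_ ?_ j) i
    · simp only [Fin.cons_zero, Fin.cons_one]; linear_combination (v 0) * h
    · simp only [Fin.cons_zero, Fin.cons_one, Fin.cons_succ, Fin.succ_zero_eq_one]
      linear_combination (v 1) * h
    · intro k; simp
  · intro v
    simp only [LinearEquiv.coe_mk, LinearMap.coe_mk, AddHom.coe_mk, Fin.cons_zero, Fin.cons_one,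
      Fin.cons_succ]
    linear_combination (a * b * v 0 ^ 2 + v 1 ^ 2) * h

theorem exists_eq_one [Fintype F] (h2 : (2 : F) ≠ 0) (a b : F) (ha : a ≠ 0) (hb : b ≠ 0) :
    ∃ x y : F, a * x ^ 2 + b * y ^ 2 = 1 := by
  have hodd : Fintype.card F % 2 = 1 := by
    refine FiniteField.odd_card_of_char_ne_two ?_
    intro hc
    exact h2 (by exact_mod_cast (ringChar.spec F 2).2 (by rw [hc]))
  obtain ⟨x, y, hxy⟩ := FiniteField.exists_root_sum_quadratic
    (f := Polynomial.C a * Polynomial.X ^ 2 + Polynomial.C (-1))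
    (g := Polynomial.C b * Polynomial.X ^ 2)
    (by rw [Polynomial.degree_add_C (by simp [Polynomial.degree_C_mul_X_pow 2 ha]),
      Polynomial.degree_C_mul_X_pow 2 ha]; rfl)
    (by rw [Polynomial.degree_C_mul_X_pow 2 hb]; rfl) hodd
  refine ⟨x, y, ?_⟩
  simp at hxy
  linear_combination hxy

/-- The form `d x₀² + x₁² + ... + x_n²`. -/
def stdForm (n : ℕ) (d : F) (v : Fin (n + 1) → F) : F :=
  d * v 0 ^ 2 + ∑ i : Fin n, v i.succ ^ 2

theorem diag_equiv_std [Fintype F] (h2 : (2 : F) ≠ 0) : ∀ (n : ℕ) (w : Fin (n + 1) → F),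
    (∀ i, w i ≠ 0) → Equiv' (stdForm n (∏ i, w i)) (fun v => ∑ i, w i * v i ^ 2) := by
  intro n
  induction n with
  | zero =>
    intro w _
    exact ⟨LinearEquiv.refl F _, fun v => by simp [stdForm]⟩
  | succ n ih =>
    intro w hw
    have hd : (∏ i : Fin (n + 1), w i.succ) ≠ 0 := Finset.prod_ne_zero_iff.2 fun i _ => hw _
    obtain ⟨x, y, hxy⟩ := exists_eq_one h2 (w 0) _ (hw 0) hd
    have e1 := equiv'_two (fun v : Fin n → F => ∑ i, v i ^ 2) _ _ x y hxy
    have e2 := Equiv'.cons (w 0) (ih (fun i => w i.succ) (fun i => hw _))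
    convert e1.trans (by convert e2 using 2; simp [stdForm, Fin.succ_zero_eq_one]) using 1
    · funext v
      simp [stdForm, Fin.prod_univ_succ, Fin.sum_univ_succ, mul_assoc]
    · funext v
      simp [Fin.sum_univ_succ]

theorem std_equiv_of_isSquare (n : ℕ) (d₁ d₂ : F) (hd₂ : d₂ ≠ 0) (hd₁ : d₁ ≠ 0)
    (h : IsSquare (d₁ * d₂)) : Equiv' (stdForm n d₁) (stdForm n d₂) := by
  obtain ⟨e, he⟩ := h
  have he0 : e ≠ 0 := by rintro rfl; simp [hd₁, hd₂] at he
  refine ⟨{
    toFun := fun v => Fin.cons (e / d₂ * v 0) (fun i => v i.succ)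
    invFun := fun v => Fin.cons (d₂ / e * v 0) (fun i => v i.succ)
    map_add' := ?_
    map_smul' := ?_
    left_inv := ?_
    right_inv := ?_ }, ?_⟩
  · intro u v; ext i; refine Fin.cases ?_ ?_ i <;> simp [mul_add]
  · intro u v; ext i; refine Fin.cases ?_ ?_ i <;> simp [mul_left_comm]
  · intro v; ext i; refine Fin.cases ?_ ?_ i <;> simp; field_simp
  · intro v; ext i; refine Fin.cases ?_ ?_ i <;> simp; field_simp
  · intro v
    simp only [stdForm, LinearEquiv.coe_mk, LinearMap.coe_mk, AddHom.coe_mk, Fin.cons_zero,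
      Fin.cons_succ]
    field_simp
    linear_combination (-(v 0 ^ 2)) * he

/-- Classification by the discriminant, odd order. -/
theorem equiv_iff_isSquare [Fintype F] (h2 : (2 : F) ≠ 0) {n : ℕ}
    (Q₁ Q₂ : QuadraticForm F (Fin n → F))
    (h₁ : Q₁.polarBilin.Nondegenerate) (h₂ : Q₂.polarBilin.Nondegenerate) :
    (∃ g : (Fin n → F) ≃ₗ[F] (Fin n → F), ∀ v, Q₂ (g v) = Q₁ v) ↔
      IsSquare ((gram ⇑Q₁).det * (gram ⇑Q₂).det) := by
  constructor
  · rintro ⟨g, hg⟩
    refine ⟨LinearMap.det g.toLinearMap * (gram ⇑Q₂).det, ?_⟩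
    rw [show (⇑Q₁ : (Fin n → F) → F) = fun v => Q₂ (g v) from (funext hg).symm, gram_det_comp]
    ring
  · intro hsq
    rcases n with _ | n
    · exact ⟨LinearEquiv.refl F _, fun v => by
        have hv : v = 0 := Subsingleton.elim _ _
        rw [LinearEquiv.refl_apply, hv, QuadraticMap.map_zero, QuadraticMap.map_zero]⟩
    letI : Invertible (2 : F) := invertibleOfNonzero h2
    have diag : ∀ Q : QuadraticForm F (Fin (n + 1) → F), Q.polarBilin.Nondegenerate →
        ∃ w : Fin (n + 1) → F, (∀ i, w i ≠ 0) ∧ Equiv' (fun v => ∑ i, w i * v i ^ 2) ⇑Q := by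
      intro Q hQ
      have hsep : (QuadraticMap.associated (R := F) Q).SeparatingLeft := by
        intro x hx
        refine hQ.1 x fun y => ?_
        have h3 := hx y
        rw [← QuadraticMap.two_nsmul_associated F Q, LinearMap.smul_apply, LinearMap.smul_apply, h3,
          smul_zero]
      obtain ⟨w, ⟨e⟩⟩ := Q.equivalent_weightedSumSquares_units_of_nondegenerate' hsep
      have hrank : Module.finrank F (Fin (n + 1) → F) = n + 1 := by simp
      let p : (Fin (n + 1) → F) ≃ₗ[F] (Fin (Module.finrank F (Fin (n + 1) → F)) → F) :=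
        LinearEquiv.funCongrLeft F F (finCongr hrank)
      refine ⟨fun i => w (finCongr hrank.symm i), fun i => Units.ne_zero _, ?_⟩
      refine ⟨p.trans e.toLinearEquiv.symm, fun v => ?_⟩
      rw [LinearEquiv.trans_apply, ← e.map_app (e.toLinearEquiv.symm (p v))]
      change QuadraticMap.weightedSumSquares F w (e.toLinearEquiv (e.toLinearEquiv.symm (p v))) = _
      rw [LinearEquiv.apply_symm_apply, QuadraticMap.weightedSumSquares_apply]
      refine Fintype.sum_equiv (finCongr hrank) _ _ fun i => ?_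
      simp [p, Units.smul_def, pow_two]
    obtain ⟨w₁, hw₁, e₁⟩ := diag Q₁ h₁
    obtain ⟨w₂, hw₂, e₂⟩ := diag Q₂ h₂
    have hdet : ∀ (Q : QuadraticForm F (Fin (n + 1) → F)) (w : Fin (n + 1) → F),
        Equiv' (fun v => ∑ i, w i * v i ^ 2) ⇑Q →
        ∃ c, c ^ 2 * (gram ⇑Q).det = 2 ^ (n + 1) * ∏ i, w i := by
      rintro Q w ⟨g, hg⟩
      refine ⟨LinearMap.det g.toLinearMap, ?_⟩
      rw [← gram_det_comp, funext hg, gram_diag, det_diagonal, Finset.prod_mul_distrib,
        Finset.prod_const, Finset.card_univ, Fintype.card_fin]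
    obtain ⟨c₁, hc₁⟩ := hdet Q₁ w₁ e₁
    obtain ⟨c₂, hc₂⟩ := hdet Q₂ w₂ e₂
    have hp₁ : ∏ i, w₁ i ≠ 0 := Finset.prod_ne_zero_iff.2 fun i _ => hw₁ i
    have hp₂ : ∏ i, w₂ i ≠ 0 := Finset.prod_ne_zero_iff.2 fun i _ => hw₂ i
    have hsq' : IsSquare ((∏ i, w₁ i) * ∏ i, w₂ i) := by
      obtain ⟨e, he⟩ := hsq
      refine ⟨c₁ * c₂ * e / 2 ^ (n + 1), ?_⟩
      field_simp
      linear_combination (c₁ ^ 2 * c₂ ^ 2) * he - (c₂ ^ 2 * (gram ⇑Q₂).det) * hc₁
        - (2 ^ (n + 1) * ∏ i, w₁ i) * hc₂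
    obtain ⟨g, hg⟩ := ((e₁.symm.trans (diag_equiv_std h2 n w₁ hw₁).symm).trans
      (std_equiv_of_isSquare n _ _ hp₂ hp₁ hsq')).trans ((diag_equiv_std h2 n w₂ hw₂).trans e₂)
    exact ⟨g, hg⟩

end CfsgLib.QuadFin
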